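/-
Self-adjoint extension fields of the symplectic space.
-/
import Cfsg.Agent.Lib.FieldSpElusive.Negative
import Cfsg.Agent.Lib.FiniteForms.Restrict
import Cfsg.Agent.Lib.Aschbacher.Forms
import Cfsg.Agent.Lib.PrimeIso.Models

set_option autoImplicit false
set_option linter.unusedSectionVars false

namespace CfsgLib.ExtSpElusive

open Polynomial Module Matrix CfsgLib.IsotropicCount CfsgLib.FieldSpElusive

universe u

variable {F : Type u} [Field F] [Fintype F] {d k : ℕ}

local notation "V" => (Fin d ⊕ Fin d → F)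
local notation "M2d" => Matrix (Fin d ⊕ Fin d) (Fin d ⊕ Fin d) F

/-- A self-adjoint field of prime degree with alternating restriction. -/
structure ExtData (K : Subalgebra F (Matrix (Fin d ⊕ Fin d) (Fin d ⊕ Fin d) F)) (k : ℕ) : Prop where
  pos : 0 < d
  prime : k.Prime
  field : Cfsg.Geo.IsFieldSubalgebra k K
  sa : ∀ a ∈ K, ∀ u v, sympB d F (a *ᵥ u) v = sympB d F u (a *ᵥ v)
  alt : ∀ a ∈ K, ∀ v, sympB d F (a *ᵥ v) v = 0

variable {K : Subalgebra F (Matrix (Fin d ⊕ Fin d) (Fin d ⊕ Fin d) F)}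

variable {p : ℕ} [Fact p.Prime] [CharP F p]

include p in
/-- The field is the abstract extension of its degree. -/
theorem exists_iso (D : ExtData K k) [NeZero k] : Nonempty (FiniteField.Extension F p k ≃ₐ[F] K) := by
  have : Nonempty (Fin d ⊕ Fin d) := ⟨Sum.inl ⟨0, D.pos⟩⟩
  letI : Field K := (CfsgLib.Aschbacher.isField_of_fieldSubalgebra D.field).toField
  exact ⟨(FiniteField.algEquivExtension F p k K D.field.finrank_eq).symm⟩

include p in
/-- Spaces acted on by the field have dimension divisible by its degree. -/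
theorem dvd_finrank (D : ExtData K k) {W : Type*} [AddCommGroup W] [Module F W] [FiniteDimensional F W]
    (ρ : K →ₐ[F] Module.End F W) : k ∣ finrank F W := by
  have : NeZero k := ⟨D.prime.ne_zero⟩
  obtain ⟨e⟩ := exists_iso (p := p) D
  let σ : FiniteField.Extension F p k →ₐ[F] Module.End F W := ρ.comp e.toAlgHom
  let : Module (FiniteField.Extension F p k) W := Module.compHom W (σ.toRingHom : FiniteField.Extension F p k →+* Module.End F W)
  have : IsScalarTower F (FiniteField.Extension F p k) W := ⟨fun c a v => by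
    show σ (c • a) v = c • σ a v
    rw [map_smul]; rfl⟩
  exact ⟨finrank (FiniteField.Extension F p k) W, by
    have h := finrank_mul_finrank F (FiniteField.Extension F p k) W
    rw [FiniteField.finrank_extension] at h
    exact h.symm⟩

include p in
theorem dvd_ker (D : ExtData K k) {M : M2d} (hM : ∀ a ∈ K, M * a = a * M) (g : F[X]) :
    k ∣ finrank F (LinearMap.ker (aeval (Matrix.toLin' M) g)) := by
  set T : Module.End F V := Matrix.toLinAlgEquiv' M with hTdef
  show k ∣ finrank F (LinearMap.ker (aeval T g))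
  have hc : ∀ a : K, ∀ v, Matrix.toLinAlgEquiv' (a : M2d) (aeval T g v) = aeval T g (Matrix.toLinAlgEquiv' (a : M2d) v) :=
    fun a v => by
      have h1 : Commute (Matrix.toLinAlgEquiv' (a : M2d)) (aeval T g) := by
        rw [hTdef, Polynomial.aeval_algHom_apply]
        exact (Algebra.commute_of_mem_adjoin_singleton_of_commute (Polynomial.aeval_mem_adjoin_singleton F M)
          (show Commute (a : M2d) M from (hM a a.2).symm)).map _
      exact LinearMap.congr_fun h1.eq v
  have hinv : ∀ a : K, ∀ v ∈ LinearMap.ker (aeval T g), Matrix.toLinAlgEquiv' (a : M2d) v ∈ LinearMap.ker (aeval T g) :=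
    fun a v hv => by rw [LinearMap.mem_ker, ← hc, LinearMap.mem_ker.mp hv, map_zero]
  exact dvd_finrank (p := p) D
    { toFun := fun a => (Matrix.toLinAlgEquiv' (a : M2d)).restrict (hinv a)
      map_one' := LinearMap.ext fun v => Subtype.ext (by simp)
      map_mul' := fun a b => LinearMap.ext fun v => Subtype.ext (by simp)
      map_zero' := LinearMap.ext fun v => Subtype.ext (by simp)
      map_add' := fun a b => LinearMap.ext fun v => Subtype.ext (by simp)
      commutes' := fun c => LinearMap.ext fun v => Subtype.ext (by simp) }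

include p in
/-- An element of the normaliser centralises the field or moves it with small eigenspaces. -/
theorem normalizer_cases (D : ExtData K k) {g : GL (Fin d ⊕ Fin d) F} (hg : g ∈ Cfsg.Geo.subalgebraNormalizer K)
    {r : ℕ} (hr : r.Prime) {z : F} (hz : ((g ^ r : GL (Fin d ⊕ Fin d) F) : M2d) = z • 1) :
    (∀ a ∈ K, (g : M2d) * a = a * (g : M2d)) ∨ (r = k ∧ ∀ ω : F, d ≤ ((g : M2d) - ω • 1).rank) := by
  classical
  haveI : Nonempty (Fin d ⊕ Fin d) := ⟨Sum.inl ⟨0, D.pos⟩⟩
  by_cases hall : ∀ a ∈ K, (g : M2d) * a = a * (g : M2d)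
  · exact Or.inl hall
  refine Or.inr ?_
  have : NeZero k := ⟨D.prime.ne_zero⟩
  obtain ⟨e⟩ := exists_iso (p := p) D
  have hfin : Finite K := Finite.of_injective Subtype.val Subtype.val_injective
  set G := (g : M2d)
  set Gi := ((g⁻¹ : GL (Fin d ⊕ Fin d) F) : M2d)
  have hGG : G * Gi = 1 := Units.mul_inv _
  have hGG' : Gi * G = 1 := Units.inv_mul _
  let φ₀ : K →ₐ[F] K :=
    { toFun := fun a => ⟨G * (a : M2d) * Gi, (hg a).mp a.2⟩
      map_one' := Subtype.ext (show G * 1 * Gi = 1 by rw [mul_one, hGG])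
      map_mul' := fun a b => Subtype.ext (show G * ((a : M2d) * b) * Gi = G * a * Gi * (G * b * Gi) by
        rw [show G * (a : M2d) * Gi * (G * b * Gi) = G * (a * (Gi * G) * b) * Gi by simp only [mul_assoc], hGG', mul_one])
      map_zero' := Subtype.ext (show G * 0 * Gi = 0 by rw [mul_zero, zero_mul])
      map_add' := fun a b => Subtype.ext (show G * ((a : M2d) + b) * Gi = G * a * Gi + G * b * Gi by rw [mul_add, add_mul])
      commutes' := fun c => Subtype.ext (show G * algebraMap F M2d c * Gi = algebraMap F M2d c by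
        rw [← (Algebra.commutes c G), mul_assoc, hGG, mul_one]) }
  have hinj : Function.Injective φ₀ := (injective_iff_map_eq_zero φ₀).mpr fun a ha => Subtype.ext (by
    have h1 : Gi * (G * (a : M2d) * Gi) * G = 0 := by rw [show G * (a : M2d) * Gi = 0 from congrArg Subtype.val ha, mul_zero, zero_mul]
    rwa [show Gi * (G * (a : M2d) * Gi) * G = Gi * G * a * (Gi * G) by simp only [mul_assoc], hGG', one_mul, mul_one] at h1)
  let φ : K ≃ₐ[F] K := AlgEquiv.ofBijective φ₀ ⟨hinj, Finite.injective_iff_surjective.mp hinj⟩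
  have hpow : ∀ (n : ℕ) (a : K), (((φ ^ n) a : K) : M2d) = ((g ^ n : GL (Fin d ⊕ Fin d) F) : M2d) * a *
      (((g ^ n)⁻¹ : GL (Fin d ⊕ Fin d) F) : M2d) := fun n => by
    induction n with
    | zero => intro a; simp
    | succ n ih =>
      intro a
      rw [pow_succ, AlgEquiv.mul_apply, ih, pow_succ, _root_.mul_inv_rev, Units.val_mul, Units.val_mul]
      show _ * (G * (a : M2d) * Gi) * _ = _
      simp only [mul_assoc]
      rfl
  have hr1 : φ ^ r = 1 := AlgEquiv.ext fun a => Subtype.ext (by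
    rw [hpow, hz, Matrix.smul_mul, one_mul, ← mul_one (a : M2d), ← Matrix.mul_smul, ← hz, mul_assoc, Units.mul_inv,
      mul_one]
    simp)
  have hne : φ ≠ 1 := fun h => hall fun a ha => by
    have h1 : G * a * Gi = a := congrArg Subtype.val (AlgEquiv.congr_fun h ⟨a, ha⟩)
    have h2 := congrArg (· * G) h1
    simpa only [mul_assoc, hGG', mul_one] using h2
  have hord : orderOf φ = r :=
    (hr.eq_one_or_self_of_dvd _ (orderOf_dvd_of_pow_eq_one hr1)).resolve_left fun h => hne (orderOf_eq_one_iff.mp h)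
  have hcard : Nat.card (K ≃ₐ[F] K) = k := by
    rw [← Nat.card_congr (AlgEquiv.autCongr e).toEquiv]
    exact FiniteField.natCard_algEquiv_extension F p k
  have hdvd := orderOf_dvd_natCard φ
  rw [hord, hcard] at hdvd
  refine ⟨(Nat.prime_dvd_prime_iff_eq hr D.prime).mp hdvd, fun ω => ?_⟩
  push Not at hall
  obtain ⟨a, ha, hab⟩ := hall
  set b := G * a * Gi - a
  have hb : b ∈ K := K.sub_mem ((hg a).mp ha) ha
  have hb0 : b ≠ 0 := fun h => hab (by
    have h2 := congrArg (· * G) (sub_eq_zero.mp h)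
    simpa only [mul_assoc, hGG', mul_one] using h2)
  have ha0 : a ≠ 0 := fun h => hab (by rw [h, mul_zero, zero_mul])
  set U := LinearMap.ker (G - ω • 1).mulVecLin with hUdef
  have hU : ∀ u ∈ U, G *ᵥ u = ω • u := fun u hu => by
    have h1 : (G - ω • (1 : M2d)) *ᵥ u = 0 := hu
    rwa [Matrix.sub_mulVec, Matrix.smul_mulVec, Matrix.one_mulVec, sub_eq_zero] at h1
  have hdisj : Disjoint U (U.map a.mulVecLin) := by
    refine Submodule.disjoint_def.mpr ?_
    rintro _ hv ⟨u, hu, rfl⟩
    have h1 : G *ᵥ (a *ᵥ u) = ω • (a *ᵥ u) := hU _ hv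
    rw [show G *ᵥ (a *ᵥ u) = (G * a * Gi) *ᵥ (G *ᵥ u) by
      rw [Matrix.mulVec_mulVec, Matrix.mulVec_mulVec, mul_assoc _ Gi, hGG', mul_one], hU u hu, Matrix.mulVec_smul,
      ← sub_eq_zero, ← smul_sub, ← Matrix.sub_mulVec] at h1
    rcases smul_eq_zero.mp h1 with h2 | h2
    · have h3 := hU u hu
      rw [h2, zero_smul] at h3
      have h4 : u = 0 := by rw [← Matrix.one_mulVec u, ← hGG', ← Matrix.mulVec_mulVec, h3, Matrix.mulVec_zero]
      simp [h4]
    · rw [CfsgLib.Aschbacher.fieldSubalgebra_mulVec_eq_zero D.field hb hb0 h2]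
      simp
  have h1 := Submodule.finrank_sup_add_finrank_inf_eq U (U.map a.mulVecLin)
  rw [hdisj.eq_bot, finrank_bot, add_zero, ← (Submodule.equivMapOfInjective _ ((injective_iff_map_eq_zero _).mpr
    fun v hv => CfsgLib.Aschbacher.fieldSubalgebra_mulVec_eq_zero D.field ha ha0 hv) U).finrank_eq] at h1
  have h2 := Submodule.finrank_le (U ⊔ U.map a.mulVecLin)
  have h3 := LinearMap.finrank_range_add_finrank_ker (G - ω • 1).mulVecLin
  rw [← hUdef] at h3
  rw [Module.finrank_pi, Fintype.card_sum, Fintype.card_fin] at h2 h3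
  rw [Matrix.rank]
  omega

include p in
/-- Reduction to symplectic elements centralising the field. -/
theorem spBad_of (D : ExtData K k) {r : ℕ} (hr : r.Prime) (M : Matrix.symplecticGroup (Fin d) F) {z : F}
    (hpow : (M : M2d) ^ r = z • 1) (hcase : r ≠ k ∨ ∃ ω : F, ((M : M2d) - ω • 1).rank < d)
    (hkey : ∀ M' : Matrix.symplecticGroup (Fin d) F, (M' : M2d) ^ r = z • 1 →
      (∀ Q : F[X], (aeval (M' : M2d) Q).rank = (aeval (M : M2d) Q).rank) →
      (∀ a ∈ K, (M' : M2d) * a = a * (M' : M2d)) → False) :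
    SpBad K r := by
  refine ⟨CfsgLib.TensorElusive.glS M, CfsgLib.TensorElusive.glS_mem M, ⟨z, by rw [Units.val_pow_eq_pow_val]; exact hpow⟩,
    fun w hw => hkey M hpow (fun _ => rfl) fun a _ => ?_, fun g hg hmem => ?_⟩
  · rw [show (M : M2d) = w • 1 from hw, Matrix.smul_mul, Matrix.mul_smul, one_mul, mul_one]
  set x := CfsgLib.TensorElusive.glS M
  have hxr : ((x ^ r : GL (Fin d ⊕ Fin d) F) : M2d) = z • 1 := by rw [Units.val_pow_eq_pow_val]; exact hpow
  obtain ⟨M', hM'⟩ := CfsgLib.TensorElusive.exists_glS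
    (mul_mem (mul_mem (inv_mem hg) (CfsgLib.TensorElusive.glS_mem M)) hg : g⁻¹ * x * g ∈ Cfsg.spGL d F)
  have hy : ((g⁻¹ * x * g) ^ r : GL (Fin d ⊕ Fin d) F).val = z • 1 := by
    have h : (g⁻¹ * x * g) ^ r = g⁻¹ * x ^ r * g := by simpa using conj_pow (a := g⁻¹) (b := x) (i := r)
    rw [h, Units.val_mul, Units.val_mul, hxr, Matrix.mul_smul, mul_one, Matrix.smul_mul, Units.inv_mul]
  have hval : (M' : M2d) = ((g⁻¹ : GL (Fin d ⊕ Fin d) F) : M2d) * (M : M2d) * (g : M2d) := congrArg Units.val hM'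
  have hrank : ∀ Q : F[X], (aeval (M' : M2d) Q).rank = (aeval (M : M2d) Q).rank := fun Q => by
    have h1 : aeval (M' : M2d) Q = ((g⁻¹ : GL (Fin d ⊕ Fin d) F) : M2d) * aeval (M : M2d) Q * (g : M2d) := by
      induction Q using Polynomial.induction_on' with
      | add P Q hP hQ => simp [hP, hQ, mul_add, add_mul]
      | monomial n c =>
        rw [aeval_monomial, aeval_monomial, hval, ← Algebra.smul_def, ← Algebra.smul_def, Matrix.mul_smul,
          Matrix.smul_mul, Units.conj_pow']
    rw [h1, Matrix.rank_mul_eq_left_of_isUnit_det _ _ ((Matrix.isUnit_iff_isUnit_det _).mp g.isUnit),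
      Matrix.rank_mul_eq_right_of_isUnit_det _ _ ((Matrix.isUnit_iff_isUnit_det _).mp g⁻¹.isUnit)]
  rcases normalizer_cases (p := p) D hmem hr hy with h | ⟨hrk, hω⟩
  · refine hkey M' ?_ hrank fun a ha => ?_
    · rw [← hy, Units.val_pow_eq_pow_val, ← hM']; rfl
    · rw [hval]; exact h a ha
  · obtain ⟨ω, hlt⟩ := hcase.resolve_left (not_not_intro hrk)
    have h1 := hω ω
    rw [← hM'] at h1
    have h2 := hrank (X - Polynomial.C ω)
    rw [map_sub, map_sub, aeval_X, aeval_X, aeval_C, aeval_C, Algebra.algebraMap_eq_smul_one] at h2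
    change d ≤ ((M' : M2d) - ω • 1).rank at h1
    omega

include p in
/-- The symplectic group over the field, and the divisibility of half the dimension. -/
theorem exists_form (D : ExtData K k) :
    ∃ m, d = k * m ∧ Fintype.card F ^ (k * m ^ 2) * ∏ i ∈ Finset.range m, (Fintype.card F ^ (k * (2 * (i + 1))) - 1) ∣
      Nat.card ↥(Cfsg.Geo.subalgebraNormalizer K ⊓ Cfsg.spGL d F) := by
  classical
  have : NeZero k := ⟨D.prime.ne_zero⟩
  obtain ⟨j⟩ := exists_iso (p := p) D
  let E := FiniteField.Extension F p k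
  let : Fintype E := Fintype.ofFinite E
  let ρ : E →ₐ[F] Module.End F V := (Matrix.toLinAlgEquiv' : M2d ≃ₐ[F] _).toAlgHom.comp (K.val.comp j.toAlgHom)
  let : Module E V := Module.compHom V (ρ.toRingHom : E →+* Module.End F V)
  have hsmul : ∀ (a : E) (v : V), a • v = (j a : M2d) *ᵥ v := fun a v => rfl
  have : IsScalarTower F E V := ⟨fun c a v => by
    show ρ (c • a) v = c • ρ a v
    rw [map_smul]; rfl⟩
  have : Module.Finite E V := Module.Finite.of_restrictScalars_finite F E V
  obtain ⟨fn, hfn⟩ : ∃ fn : E →ₗ[F] F, fn 1 ≠ 0 := by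
    by_contra hc
    push Not at hc
    exact one_ne_zero ((Module.forall_dual_apply_eq_zero_iff F (1 : E)).mp hc)
  let ψ : E →ₗ[F] Module.Dual F E := (LinearMap.mul F E).compr₂ fn
  have hψ : Function.Bijective ψ := by
    have hi : Function.Injective ψ := (injective_iff_map_eq_zero ψ).mpr fun x hx => by
      by_contra h0
      have h1 := LinearMap.congr_fun hx x⁻¹
      exact hfn (by simpa [ψ, mul_inv_cancel₀ h0] using h1)
    exact ⟨hi, (LinearMap.injective_iff_surjective_of_finrank_eq_finrank (Subspace.dual_finrank_eq).symm).mp hi⟩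
  let Ψ := LinearEquiv.ofBijective ψ hψ
  let L : V → V → Module.Dual F E := fun u v =>
    { toFun := fun a => sympB d F (a • u) v
      map_add' := fun a b => by simp [add_smul]
      map_smul' := fun c a => by simp [smul_assoc] }
  let β₀ : V → V → E := fun u v => Ψ.symm (L u v)
  have hβ : ∀ u v (a : E), fn (β₀ u v * a) = sympB d F (a • u) v := fun u v a => by
    show ψ (Ψ.symm (L u v)) a = L u v a
    exact LinearMap.congr_fun (Ψ.apply_symm_apply (L u v)) a
  have hext : ∀ x y : E, (∀ a, fn (x * a) = fn (y * a)) → x = y := fun x y hxy =>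
    hψ.1 (LinearMap.ext hxy)
  let β : V →ₗ[E] V →ₗ[E] E := LinearMap.mk₂ E β₀
    (fun u u' v => hext _ _ fun a => by simp [add_mul, hβ, smul_add])
    (fun c u v => hext _ _ fun a => by rw [smul_eq_mul, mul_comm c, mul_assoc, hβ, hβ, smul_smul, mul_comm c a])
    (fun u v v' => hext _ _ fun a => by simp [add_mul, hβ])
    (fun c u v => hext _ _ fun a => by
      rw [smul_eq_mul, mul_comm c, mul_assoc, hβ, hβ, hsmul c v, ← D.sa _ (j c).2, ← hsmul, smul_smul])
  have hB : ∀ u v, fn (β u v) = sympB d F u v := fun u v => by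
    have h := hβ u v 1
    rwa [mul_one, one_smul] at h
  have halt : ∀ u, β u u = 0 := fun u => hext _ _ fun a => by
    rw [zero_mul, map_zero]
    show fn (β₀ u u * a) = 0
    rw [hβ, hsmul, D.alt _ (j a).2]
  have hnd : ∀ u, (∀ v, β u v = 0) → u = 0 := fun u hu => sympB_nondeg.1 u fun v => by rw [← hB, hu, map_zero]
  have hKV : k * finrank E V = 2 * d := by
    conv_rhs => rw [two_mul]
    have h := finrank_mul_finrank F E V
    rw [show finrank F E = k from FiniteField.finrank_extension F p k, Module.finrank_pi, Fintype.card_sum, Fintype.card_fin] at h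
    exact h
  obtain ⟨m, hm⟩ : Even (finrank E V) := by
    let e₀ := LinearEquiv.ofFinrankEq V (Fin (finrank E V) → E) (by rw [Module.finrank_fin_fun])
    have h := CfsgLib.Aschbacher.even_finrank_of_alternating (F := E) (ι := Fin (finrank E V))
      (f := fun u v => β (e₀.symm u) (e₀.symm v))
      ⟨fun x y v => by simp, fun c x v => by simp, fun v x y => by simp, fun c v x => by simp⟩
      (fun v => halt _) _ ⊤ rfl (fun w _ hw => by
        by_contra hc
        push Not at hc
        exact hw (e₀.symm.map_eq_zero_iff.mp (hnd _ fun v => by simpa using hc (e₀ v) trivial)))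
    rwa [finrank_top, Module.finrank_fin_fun] at h
  rw [← two_mul] at hm
  rw [hm, mul_left_comm] at hKV
  refine ⟨m, by omega, ?_⟩
  obtain ⟨e, he⟩ := CfsgLib.PrimeIso.exists_std β halt hnd hm
  let T : (Fin m ⊕ Fin m → E) ≃ₗ[F] V := (e.restrictScalars F).symm
  let φ₀ : Matrix.symplecticGroup (Fin m) E →* M2d :=
    (CfsgLib.FiniteForms.restrictMat T).comp (Matrix.symplecticGroup (Fin m) E).subtype
  let φ := φ₀.toHomUnits
  have hinj : Function.Injective φ := fun g₁ g₂ h =>
    Subtype.ext (CfsgLib.FiniteForms.restrictMat_injective T (congrArg Units.val h))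
  have hle : φ.range ≤ Cfsg.Geo.subalgebraNormalizer K ⊓ Cfsg.spGL d F := by
    rintro _ ⟨g, rfl⟩
    have hval : ∀ u, (φ g : M2d) *ᵥ T u = T ((g : Matrix (Fin m ⊕ Fin m) (Fin m ⊕ Fin m) E) *ᵥ u) := fun u =>
      CfsgLib.FiniteForms.restrictMat_mulVec T _ u
    have hcomm : ∀ a ∈ K, (φ g : M2d) * a = a * (φ g : M2d) := fun a ha => by
      refine Matrix.ext_of_mulVec_single fun i => ?_
      obtain ⟨u, hu⟩ := T.surjective (Pi.single i 1)
      rw [← Matrix.mulVec_mulVec, ← Matrix.mulVec_mulVec, ← hu]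
      obtain ⟨x, hx⟩ := j.surjective ⟨a, ha⟩
      have h1 : ∀ u, a *ᵥ T u = T (x • u) := fun u => by
        rw [show a *ᵥ T u = x • T u from by rw [hsmul, hx]]
        exact (map_smul e.symm _ u).symm
      rw [h1, hval, hval, h1, Matrix.mulVec_smul]
    refine ⟨fun b => ?_, fun u v => ?_⟩
    · have hfix : ∀ a ∈ K, (φ g : M2d) * a * (((φ g)⁻¹ : GL (Fin d ⊕ Fin d) F) : M2d) = a := fun a ha => by
        rw [hcomm a ha, mul_assoc, Units.mul_inv, mul_one]
      refine ⟨fun hb => (hfix b hb).symm ▸ hb, fun hb => ?_⟩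
      have h1 := hfix _ hb
      have h2 : (φ g : M2d) * b * (((φ g)⁻¹ : GL (Fin d ⊕ Fin d) F) : M2d) = b :=
        (φ g).isUnit.mul_left_cancel (((φ g)⁻¹).isUnit.mul_right_cancel h1)
      exact h2 ▸ hb
    · obtain ⟨u₀, rfl⟩ := T.surjective u
      obtain ⟨v₀, rfl⟩ := T.surjective v
      show Cfsg.sympForm d F ((φ g : M2d) *ᵥ T u₀) ((φ g : M2d) *ᵥ T v₀) = _
      rw [hval, hval, ← sympB_apply, ← sympB_apply, ← hB, ← hB]
      show fn (β (e.symm _) (e.symm _)) = fn (β (e.symm u₀) (e.symm v₀))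
      rw [← he, ← he, e.apply_symm_apply, e.apply_symm_apply, e.apply_symm_apply, e.apply_symm_apply]
      exact congrArg fn (CfsgLib.IsotropicCount.symp_preserves g u₀ v₀)
  have h := Subgroup.card_dvd_of_le hle
  have hE : Fintype.card E = Fintype.card F ^ k := by
    rw [Module.card_eq_pow_finrank (K := F), show finrank F E = k from FiniteField.finrank_extension F p k]
  rw [← Nat.card_congr (MonoidHom.ofInjective hinj).toEquiv, Cfsg.Agent.S0245.result hE] at h
  simp only [← pow_mul] at h
  exact h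

end CfsgLib.ExtSpElusive
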