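/-
Symplectic elements of prime order without conjugates in the normaliser of a self-adjoint extension field.
-/
import Cfsg.Agent.Lib.ExtSpElusive.Core

set_option autoImplicit false
set_option linter.unusedSectionVars false

namespace CfsgLib.ExtSpElusive

open Polynomial Module Matrix CfsgLib.IsotropicCount CfsgLib.FieldSpElusive CfsgLib.MaxSub.Elusive

universe u

variable {F : Type u} [Field F] [Fintype F] {p r d k : ℕ} [Fact p.Prime] [CharP F p] [Fact r.Prime]
  {K : Subalgebra F (Matrix (Fin d ⊕ Fin d) (Fin d ⊕ Fin d) F)}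

local notation "V" => (Fin d ⊕ Fin d → F)
local notation "M2d" => Matrix (Fin d ⊕ Fin d) (Fin d ⊕ Fin d) F

theorem ker_eq_of_rank {M M' : M2d} (hrank : ∀ Q : F[X], (aeval M' Q).rank = (aeval M Q).rank) (Q : F[X]) :
    finrank F (LinearMap.ker (aeval (Matrix.toLin' M') Q)) = finrank F (LinearMap.ker (aeval (Matrix.toLin' M) Q)) := by
  have h1 := rank_add_ker M Q
  have h2 := rank_add_ker M' Q
  rw [hrank Q] at h2
  omega

include p in
theorem k_dvd (D : ExtData K k) : k ∣ d := by
  obtain ⟨m, hm, -⟩ := exists_form (p := p) D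
  exact ⟨m, hm⟩

include p in
/-- A transvection. -/
theorem spBad_char (D : ExtData K k) (hd : 2 ≤ d) : SpBad K p := by
  classical
  let j0 : Fin d := ⟨0, D.pos⟩
  let S : Matrix (Fin d) (Fin d) F := Matrix.single j0 j0 1
  have hmem : Matrix.fromBlocks 1 S 0 1 ∈ Matrix.symplecticGroup (Fin d) F := by
    rw [SymplecticGroup.mem_iff, Matrix.J, Matrix.fromBlocks_transpose, Matrix.fromBlocks_multiply, Matrix.fromBlocks_multiply]
    simp [S, Matrix.transpose_single]
  have hpow : ∀ n : ℕ, (Matrix.fromBlocks 1 S 0 1 : M2d) ^ n = Matrix.fromBlocks 1 ((n : F) • S) 0 1 := fun n => by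
    induction n with
    | zero => simp
    | succ n ih => rw [pow_succ, ih, Matrix.fromBlocks_multiply]; simp [add_smul, add_comm]
  have hrk : ((Matrix.fromBlocks 1 S 0 1 : M2d) - (1 : F) • 1).rank = 1 := by
    rw [one_smul, show (Matrix.fromBlocks 1 S 0 1 : M2d) - 1 = Matrix.single (Sum.inl j0) (Sum.inr j0) 1 by
      ext (i | i) (j | j) <;> simp [S, Matrix.single_apply, Matrix.one_apply], CfsgLib.TensorElusive.rank_single]
  refine spBad_of (p := p) D Fact.out ⟨_, hmem⟩ (z := 1) ?_ (Or.inr ⟨1, by rw [hrk]; omega⟩) fun M' _ hrank hcomm => ?_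
  · show (Matrix.fromBlocks 1 S 0 1) ^ p = _
    rw [hpow, CharP.cast_eq_zero, zero_smul, Matrix.fromBlocks_one, one_smul]
  · have h1 := dvd_ker (p := p) D hcomm (X - Polynomial.C 1)
    have h2 := rank_add_ker (M' : M2d) (X - Polynomial.C 1)
    rw [hrank, map_sub, aeval_X, aeval_C, Algebra.algebraMap_eq_smul_one] at h2
    change ((Matrix.fromBlocks 1 S 0 1 : M2d) - (1 : F) • 1).rank + _ = _ at h2
    rw [hrk] at h2
    have h3 : k ∣ 2 * d := (k_dvd (p := p) D).mul_left 2
    rw [← h2] at h3
    exact D.prime.one_lt.ne' (Nat.dvd_one.mp ((Nat.dvd_add_left h1).mp h3))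

include p in
/-- A paired block. -/
theorem spBad_swap (D : ExtData K k) (hr : Odd r) (hrp : r ≠ p) {i : ℕ}
    (hi : orderOf (Fintype.card F : ZMod r) = i) (ho : Odd i) (hid : i ≤ d) (hki : ¬ k ∣ i) (hcase : r ≠ k ∨ 2 * i < d) :
    SpBad K r := by
  obtain ⟨B, _, _, _, 𝔅, z, g, hdim, hz2, hz3, hzu, hg1, hgk⟩ :=
    CfsgLib.TensorElusive.exists_swap_block' (F := F) (p := p) (r := r) (i := i) hrp hi ho
      (fun h => by obtain ⟨n, hn⟩ := hr; omega)
  obtain ⟨x, hx, hker⟩ := CfsgLib.PrimeIso.exists_element 𝔅 (T := 1) (k := d - i) (fun _ => z) (fun _ => hz2)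
    (fun _ => hz3) (d := d) (by rw [hdim]; omega)
  have h3 := (hker g).1 hg1
  rw [Fin.sum_univ_one, hgk] at h3
  refine spBad_of (p := p) D Fact.out x (z := 1) (by rw [← SubmonoidClass.coe_pow, hx, one_smul]; rfl)
    (hcase.imp_right fun h => ⟨1, ?_⟩) fun M' _ hrank hcomm => ?_
  · have h4 := (hker (X - Polynomial.C 1)).2 (by simp)
    have h5 := rank_add_ker (x : M2d) (X - Polynomial.C 1)
    rw [h4, map_sub, aeval_X, aeval_C, Algebra.algebraMap_eq_smul_one] at h5
    omega
  · have h4 := dvd_ker (p := p) D hcomm g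
    rw [ker_eq_of_rank hrank g, h3] at h4
    exact hki h4

theorem fixed_mem_range {B : Type*} [Field B] [Algebra F B] {y : B} (hy : y ^ Fintype.card F = y) :
    ∃ l : F, algebraMap F B l = y := by
  classical
  have h1 : ((X : F[X]) ^ Fintype.card F - X).map (algebraMap F B) =
      (Finset.univ.val.map fun a : F => X - Polynomial.C (algebraMap F B a)).prod := by
    have hm : ((X : F[X]) ^ Fintype.card F - X).Monic := monic_X_pow_sub (by
      rw [degree_X]; exact_mod_cast Fintype.one_lt_card)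
    rw [← prod_multiset_X_sub_C_of_monic_of_roots_card_eq hm (by
      rw [FiniteField.roots_X_pow_card_sub_X, FiniteField.X_pow_card_sub_X_natDegree_eq F Fintype.one_lt_card,
        Finset.card_val, Finset.card_univ]),
      FiniteField.roots_X_pow_card_sub_X, Polynomial.map_multiset_prod, Multiset.map_map]
    simp
  have h2 := congrArg (Polynomial.eval y) h1
  rw [Polynomial.map_sub, Polynomial.map_pow, Polynomial.map_X, eval_sub, eval_pow, eval_X, hy, sub_self,
    eval_multiset_prod, eq_comm, Multiset.prod_eq_zero_iff, Multiset.map_map, Multiset.mem_map] at h2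
  obtain ⟨l, -, hl⟩ := h2
  exact ⟨l, (sub_eq_zero.mp (by simpa using hl)).symm⟩

include p in
/-- A single block on which the field would act by scalars. -/
theorem spBad_field (D : ExtData K k) (hrp : r ≠ p) {h : ℕ}
    (hi : orderOf (Fintype.card F : ZMod r) = 2 * h) (hcop : Nat.Coprime k h) (hh : 0 < h) (hhd : h ≤ d)
    (hcase : r ≠ k ∨ 2 * h < d) : SpBad K r := by
  classical
  have hrP : r.Prime := Fact.out
  obtain ⟨B, _, _, _, 𝔅, hdim, hroots⟩ := CfsgLib.PrimeIso.exists_field_block (F := F) (p := p) (r := r) (h := h) hrp hi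
  have hdeg : (geom F r).natDegree = r - 1 := CfsgLib.PrimeIso.geom_natDegree (F := F) hrP.pos
  obtain ⟨g₁, hg₁⟩ := Polynomial.exists_irreducible_of_natDegree_pos (f := geom F r) (by have := hrP.two_le; omega)
  set g := g₁ * Polynomial.C g₁.leadingCoeff⁻¹
  have hgm : g.Monic := monic_mul_leadingCoeff_inv hg₁.1.ne_zero
  have hass : Associated g₁ g := associated_mul_unit_right g₁ _
    (isUnit_C.mpr (isUnit_iff_ne_zero.mpr (inv_ne_zero (leadingCoeff_ne_zero.mpr hg₁.1.ne_zero))))
  have hgi : Irreducible g := hass.irreducible hg₁.1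
  have hgd : g ∣ geom F r := hass.dvd_iff_dvd_left.mp hg₁.2
  have hgn : g.natDegree = 2 * h := (geom_degree (p := p) hrP hrp hgi hgm hgd).trans hi
  obtain ⟨z, hz, hz2, hz3, hz4⟩ := hroots g hgi hgm hgd
  obtain ⟨x, hx, hker⟩ := CfsgLib.PrimeIso.exists_element 𝔅 (T := 1) (k := d - h) (fun _ => z) (fun _ => hz2)
    (fun _ => hz3) (d := d) (by rw [hdim]; omega)
  have hxr : (x : M2d) ^ r = 1 := by rw [← SubmonoidClass.coe_pow, hx]; rfl
  have hg1 : g.eval 1 ≠ 0 := fun h1 => by
    have h2 : g.natDegree = 1 := natDegree_eq_of_degree_eq_some (degree_eq_one_of_irreducible_of_root hgi h1)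
    omega
  have hWx : finrank F (LinearMap.ker (aeval (Matrix.toLin' (x : M2d)) g)) = 2 * h := by
    rw [(hker g).1 hg1, Fin.sum_univ_one, hz, LinearMap.mulLeft_zero_eq_zero, LinearMap.ker_zero, finrank_top, hdim]
  have hUx : 2 * (d - h) ≤ finrank F (LinearMap.ker (aeval (Matrix.toLin' (x : M2d)) (X - Polynomial.C (1 : F)))) := by
    rw [(hker (X - Polynomial.C 1)).2 (by simp)]
    exact Nat.le_add_left _ _
  refine spBad_of (p := p) D Fact.out x (z := 1) (by rw [hxr, one_smul]) (hcase.imp_right fun h' => ⟨1, ?_⟩)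
    fun M' hM'r hrank hcomm => ?_
  · have h5 := rank_add_ker (x : M2d) (X - Polynomial.C 1)
    rw [map_sub, aeval_X, aeval_C, Algebra.algebraMap_eq_smul_one] at h5
    omega
  rw [one_smul] at hM'r
  set T : Module.End F V := Matrix.toLinAlgEquiv' (M' : M2d) with hTdef
  have hTl : Matrix.toLin' (M' : M2d) = T := rfl
  set W := LinearMap.ker (aeval T g) with hWdef
  set U := LinearMap.ker (aeval T (X - Polynomial.C (1 : F))) with hUdef
  have hWdim : finrank F W = 2 * h := by rw [hWdef, ← hTl, ker_eq_of_rank hrank g, hWx]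
  have hUdim : 2 * (d - h) ≤ finrank F U := by rw [hUdef, ← hTl, ker_eq_of_rank hrank]; exact hUx
  have hcp : IsCoprime g (X - Polynomial.C (1 : F)) :=
    (Irreducible.coprime_iff_not_dvd (irreducible_X_sub_C 1)).mpr (fun hdv => hg1 (dvd_iff_isRoot.mp hdv)) |>.symm
  have hdisj : Disjoint W U := Polynomial.disjoint_ker_aeval_of_isCoprime T hcp
  have hWU : W ⊔ U = ⊤ := Submodule.eq_top_of_finrank_eq (le_antisymm (Submodule.finrank_le _) (by
    have h1 := Submodule.finrank_sup_add_finrank_inf_eq W U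
    rw [hdisj.eq_bot, finrank_bot, add_zero] at h1
    rw [h1, Module.finrank_pi, Fintype.card_sum, Fintype.card_fin, hWdim]
    omega))
  have hTW : ∀ w ∈ W, ∀ Q : F[X], aeval T Q w ∈ W := fun w hw Q => by
    rw [hWdef, LinearMap.mem_ker, ← Module.End.mul_apply, ← map_mul, mul_comm, map_mul, Module.End.mul_apply,
      LinearMap.mem_ker.mp hw, map_zero]
  have hTB : ∀ u v, sympB d F (T u) (T v) = sympB d F u v := fun u v => by
    rw [sympB_apply, sympB_apply]
    exact symp_preserves M' u v
  have hTr : T ^ r = 1 := by rw [hTdef, ← map_pow, hM'r, map_one]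
  obtain ⟨r', hr'⟩ : ∃ r', r = r' + 1 := ⟨r - 1, by have := hrP.pos; omega⟩
  -- the two parts are orthogonal
  have horth : ∀ w ∈ W, ∀ v ∈ U, sympB d F w v = 0 := fun w hw v hv => by
    have hv' : T v = v := by
      have h1 : aeval T (X - Polynomial.C (1 : F)) v = 0 := hv
      simpa [sub_eq_zero] using h1
    let S : W →ₗ[F] W := (aeval T (X - Polynomial.C (1 : F))).restrict fun w hw => hTW w hw _
    have hS : Function.Surjective S := LinearMap.surjective_of_injective ((injective_iff_map_eq_zero S).mpr fun y hy =>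
      Subtype.ext (Submodule.disjoint_def.mp hdisj y.1 y.2 (congrArg Subtype.val hy)))
    obtain ⟨y, hy⟩ := hS ⟨w, hw⟩
    have h2 : aeval T (X - Polynomial.C (1 : F)) y.1 = w := congrArg Subtype.val hy
    rw [← h2, map_sub, aeval_X, aeval_C, map_one, LinearMap.sub_apply, Module.End.one_apply, map_sub,
      LinearMap.sub_apply, sub_eq_zero]
    conv_rhs => rw [← hTB, hv']
  -- adjoints of polynomials
  have hadjP : ∀ (Q : F[X]) u v, sympB d F (aeval T Q u) v = sympB d F u (aeval (T ^ r') Q v) := fun Q u v => by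
    have h1 : ∀ u v, sympB d F (T u) v = sympB d F u ((T ^ r') v) := fun u v => by
      rw [← hTB u ((T ^ r') v), ← Module.End.mul_apply T (T ^ r') v, ← pow_succ', ← hr', hTr, Module.End.one_apply]
    induction Q using Polynomial.induction_on' with
    | add P Q hP hQ => simp [hP, hQ]
    | monomial n b =>
      rw [aeval_monomial, aeval_monomial]
      simp only [Module.End.mul_apply, Module.algebraMap_end_apply, map_smul, LinearMap.smul_apply]
      congr 1
      induction n generalizing u with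
      | zero => simp
      | succ n ih => rw [pow_succ, pow_succ', Module.End.mul_apply, Module.End.mul_apply, ih, h1]
  -- the field acts on the block through a polynomial
  have haT : ∀ a ∈ K, ∀ (Q : F[X]) v, a *ᵥ aeval T Q v = aeval T Q (a *ᵥ v) := fun a ha Q v => by
    have h1 : Commute (Matrix.toLinAlgEquiv' a) (aeval T Q) := by
      rw [hTdef, Polynomial.aeval_algHom_apply]
      exact (Algebra.commute_of_mem_adjoin_singleton_of_commute (Polynomial.aeval_mem_adjoin_singleton F (M' : M2d))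
        (show Commute a (M' : M2d) from (hcomm a ha).symm)).map _
    have h2 := LinearMap.congr_fun h1.eq v
    simpa [Matrix.toLin'_apply] using h2
  have haW : ∀ a ∈ K, ∀ w ∈ W, a *ᵥ w ∈ W := fun a ha w hw => by
    rw [hWdef, LinearMap.mem_ker, ← haT a ha, LinearMap.mem_ker.mp hw, Matrix.mulVec_zero]
  obtain ⟨w, hw, hw0⟩ := Submodule.exists_mem_ne_zero_of_ne_bot (p := W) (fun h1 => by
    rw [h1, finrank_bot] at hWdim; omega)
  have hann : ∀ Q : F[X], aeval T Q w = 0 → g ∣ Q := fun Q hQ => by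
    by_contra hdv
    exact hw0 (Submodule.disjoint_def.mp (Polynomial.disjoint_ker_aeval_of_isCoprime T
      (hgi.coprime_iff_not_dvd.mpr hdv)) w hw hQ)
  have hmin : g = minpoly F z := minpoly.eq_of_irreducible_of_monic hgi hz hgm
  have hWnd : ∀ u ∈ W, (∀ v ∈ W, sympB d F v u = 0) → u = 0 := fun u hu h0 => by
    refine sympB_nondeg.1 u fun v => ?_
    obtain ⟨v₁, hv₁, v₂, hv₂, rfl⟩ := Submodule.mem_sup.mp (hWU ▸ Submodule.mem_top : v ∈ W ⊔ U)
    have h1 : sympB d F u v₁ = 0 := by
      have h2 := sympB_alt (u + v₁)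
      simp only [map_add, LinearMap.add_apply, sympB_alt u, sympB_alt v₁, zero_add, add_zero, h0 v₁ hv₁] at h2
      exact h2
    rw [map_add, h1, horth u hu v₂ hv₂, add_zero]
  have hzh : z ^ Fintype.card F ^ h = z ^ r' := by
    obtain ⟨m, hm⟩ := CfsgLib.PrimeIso.half_pow (F := F) (p := p) (r := r) hrp hi
    have hz0 : z ≠ 0 := fun h0 => by rw [h0, zero_pow hrP.ne_zero] at hz3; exact zero_ne_one hz3
    refine mul_right_cancel₀ hz0 ?_
    rw [← pow_succ, ← pow_succ, hm, ← hr', pow_mul, hz3, one_pow]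
  -- every element of the field is a scalar
  have hscal : ∀ a ∈ K, ∃ l : F, a = l • (1 : M2d) := by
    intro a ha
    obtain ⟨P, hP⟩ : ∃ P : F[X], ∀ v ∈ W, a *ᵥ v = aeval T P v := by
      let φ : Polynomial.degreeLT F (2 * h) →ₗ[F] W :=
        LinearMap.codRestrict W ((LinearMap.applyₗ w).comp ((aeval T).toLinearMap.comp (Submodule.subtype _)))
          fun Q => hTW w hw _
      have hφ : Function.Surjective φ := by
        rw [← LinearMap.injective_iff_surjective_of_finrank_eq_finrank
          (by rw [hWdim, (Polynomial.degreeLTEquiv F (2 * h)).finrank_eq, Module.finrank_fin_fun])]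
        refine (injective_iff_map_eq_zero φ).mpr fun Q hQ => Subtype.ext ?_
        by_contra h0
        have h1 := Polynomial.natDegree_le_of_dvd (hann Q.1 (congrArg Subtype.val hQ)) h0
        have h2 := (natDegree_lt_iff_degree_lt h0).mpr (Polynomial.mem_degreeLT.mp Q.2)
        omega
      obtain ⟨P, hP⟩ := hφ ⟨_, haW a ha w hw⟩
      refine ⟨P.1, fun v hv => ?_⟩
      obtain ⟨Q, hQ⟩ := hφ ⟨v, hv⟩
      have hP' : aeval T P.1 w = a *ᵥ w := congrArg Subtype.val hP
      have hQ' : aeval T Q.1 w = v := congrArg Subtype.val hQ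
      rw [← hQ', haT a ha, ← hP', ← Module.End.mul_apply, ← Module.End.mul_apply, ← map_mul, ← map_mul, mul_comm]
    set y := aeval z P
    have hdvd : ∀ Q : F[X], g ∣ Q → aeval z Q = 0 := fun Q ⟨R, hR⟩ => by rw [hR, map_mul, hz, zero_mul]
    -- the element is periodic under the Frobenius
    have hiter : ∀ n, (fun t : B => t ^ Fintype.card F)^[n] y = y ^ Fintype.card F ^ n := fun n => by
      induction n with
      | zero => simp
      | succ n ih => rw [Function.iterate_succ_apply', ih, ← pow_mul, ← pow_succ]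
    have hyk : y ^ Fintype.card F ^ k = y := by
      have hak : a ^ Fintype.card F ^ k = a := by
        have : NeZero k := ⟨D.prime.ne_zero⟩
        obtain ⟨e⟩ := exists_iso (p := p) D
        let : Fintype (FiniteField.Extension F p k) := Fintype.ofFinite _
        obtain ⟨t, ht⟩ := e.surjective ⟨a, ha⟩
        have h1 := congrArg (fun s => (e s : M2d)) (FiniteField.pow_card t)
        rw [← Nat.card_eq_fintype_card, FiniteField.natCard_extension, Nat.card_eq_fintype_card] at h1
        simpa [ht] using h1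
      have hpw : ∀ n : ℕ, ∀ v ∈ W, (a ^ n) *ᵥ v = aeval T (P ^ n) v := fun n => by
        induction n with
        | zero => intro v _; simp
        | succ n ih =>
          intro v hv
          rw [pow_succ, ← Matrix.mulVec_mulVec, ih _ (haW a ha v hv), hP v hv, pow_succ, map_mul, Module.End.mul_apply]
      have h1 := hdvd _ (hann (P ^ Fintype.card F ^ k - P) (by
        rw [map_sub, LinearMap.sub_apply, ← hpw _ w hw, hak, ← hP w hw, sub_self]))
      rwa [map_sub, map_pow, sub_eq_zero] at h1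
    have hyh : y ^ Fintype.card F ^ h = y := by
      have h1 : aeval T (P.comp (X ^ r') - P) w = 0 := by
        refine hWnd _ (hTW w hw _) fun u hu => ?_
        rw [map_sub, aeval_comp, map_pow, aeval_X, LinearMap.sub_apply, map_sub, ← hadjP, ← hP u hu, ← hP w hw,
          D.sa a ha, sub_self]
      have h2 := hdvd _ (hann _ h1)
      rw [map_sub, aeval_comp, map_pow, aeval_X, ← hzh, sub_eq_zero] at h2
      have h3 : ∀ n : ℕ, aeval (z ^ Fintype.card F ^ n) P = y ^ Fintype.card F ^ n := fun n => by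
        induction n with
        | zero => simp [y]
        | succ n ih => rw [pow_succ, pow_mul, aeval_pow_card, ih, ← pow_mul]
      rw [← h3, h2]
    have hy1 : y ^ Fintype.card F = y := by
      have h1 := Function.IsPeriodicPt.gcd (f := fun t : B => t ^ Fintype.card F) (x := y) (m := k) (n := h)
        ((hiter k).trans hyk) ((hiter h).trans hyh)
      rwa [hcop.gcd_eq_one, Function.IsPeriodicPt, Function.IsFixedPt, Function.iterate_one] at h1
    obtain ⟨l, hl⟩ := fixed_mem_range hy1
    have h1 : g ∣ P - Polynomial.C l := by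
      rw [hmin]
      refine minpoly.dvd F z ?_
      rw [map_sub, aeval_C, hl, sub_self]
    obtain ⟨R, hR⟩ := h1
    have h2 : (a - l • (1 : M2d)) *ᵥ w = 0 := by
      have h3 : aeval T (P - Polynomial.C l) w = 0 := by
        rw [hR, mul_comm, map_mul, Module.End.mul_apply, LinearMap.mem_ker.mp hw, map_zero]
      rw [map_sub, aeval_C, LinearMap.sub_apply, Module.algebraMap_end_apply, ← hP w hw] at h3
      rw [Matrix.sub_mulVec, Matrix.smul_mulVec, Matrix.one_mulVec, h3]
    refine ⟨l, sub_eq_zero.mp ?_⟩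
    by_contra h0
    exact hw0 (CfsgLib.Aschbacher.fieldSubalgebra_mulVec_eq_zero D.field (K.sub_mem ha (K.smul_mem K.one_mem l)) h0 h2)
  have hone : (1 : M2d) ≠ 0 := fun h0 => hw0 (by rw [← Matrix.one_mulVec w, h0, Matrix.zero_mulVec])
  have h1 : K.toSubmodule ≤ Submodule.span F {(1 : M2d)} := fun a ha => by
    obtain ⟨l, rfl⟩ := hscal a ha
    exact Submodule.mem_span_singleton.mpr ⟨l, rfl⟩
  have h2 := Submodule.finrank_mono h1
  rw [Subalgebra.finrank_toSubmodule, D.field.finrank_eq, finrank_span_singleton hone] at h2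
  have := D.prime.two_le
  omega

include p in
/-- An involution with a two-dimensional eigenspace. -/
theorem spBad_two (D : ExtData K k) (hp2 : p ≠ 2) (hd : 2 < d ∨ k ≠ 2) : SpBad K 2 := by
  classical
  have h20 : (2 : F) ≠ 0 := fun h => by
    have h' : ((2 : ℕ) : F) = 0 := by exact_mod_cast h
    rw [CharP.cast_eq_zero_iff F p] at h'
    exact hp2 ((Nat.prime_dvd_prime_iff_eq Fact.out Nat.prime_two).mp h')
  let j0 : Fin d := ⟨0, D.pos⟩
  let v : Fin d → F := fun j => if j = j0 then -1 else 1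
  have hne : (-1 : F) ≠ 1 := fun h => h20 (by linear_combination -h)
  have hvv : ∀ j, v j * v j = 1 := fun j => by by_cases h : j = j0 <;> simp [v, h]
  have hmem : Matrix.diagonal (Sum.elim v v) ∈ Matrix.symplecticGroup (Fin d) F := by
    rw [SymplecticGroup.mem_iff, Matrix.J, ← Matrix.fromBlocks_diagonal, Matrix.fromBlocks_transpose,
      Matrix.fromBlocks_multiply, Matrix.fromBlocks_multiply]
    simp [Matrix.diagonal_transpose, Matrix.diagonal_mul_diagonal, hvv]
    rw [← Matrix.diagonal_one, Matrix.diagonal_neg]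
  have hrk1 : (Matrix.diagonal (Sum.elim v v) - (1 : F) • 1).rank = 2 := by
    rw [CfsgLib.TensorElusive.rank_diag_sub, show (Finset.univ.filter fun i => Sum.elim v v i ≠ (1 : F)) =
      {Sum.inl j0, Sum.inr j0} by ext (i | i) <;> by_cases h : i = j0 <;> simp [v, h, hne],
      Finset.card_pair Sum.inl_ne_inr]
  have hrk2 : (Matrix.diagonal (Sum.elim v v) - (-1 : F) • 1).rank + 2 = 2 * d := by
    rw [CfsgLib.TensorElusive.rank_diag_sub, show (Finset.univ.filter fun i => Sum.elim v v i ≠ (-1 : F)) =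
      (Finset.univ.erase (Sum.inl j0)).erase (Sum.inr j0) by
        ext (i | i) <;> by_cases h : i = j0 <;> simp [v, h, hne.symm],
      Finset.card_erase_of_mem (by simp), Finset.card_erase_of_mem (Finset.mem_univ _), Finset.card_univ, Fintype.card_sum,
      Fintype.card_fin]
    have := D.pos
    omega
  refine spBad_of (p := p) D Nat.prime_two ⟨_, hmem⟩ (z := 1) ?_ ?_ fun M' hM' hrank hcomm => ?_
  · show Matrix.diagonal (Sum.elim v v) ^ 2 = _
    rw [Matrix.diagonal_pow, one_smul, ← Matrix.diagonal_one]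
    congr 1
    funext i
    rcases i with i | i <;> simp [pow_two, hvv]
  · by_cases hk2 : k = 2
    · exact Or.inr ⟨1, by show (Matrix.diagonal (Sum.elim v v) - (1 : F) • 1).rank < d; rw [hrk1]; omega⟩
    · exact Or.inl (Ne.symm hk2)
  set T : Module.End F V := Matrix.toLinAlgEquiv' (M' : M2d) with hTdef
  have hrk : ∀ l : F, ((M' : M2d) - l • 1).rank = (Matrix.diagonal (Sum.elim v v) - l • 1).rank := fun l => by
    have h := hrank (X - Polynomial.C l)
    rwa [map_sub, map_sub, aeval_X, aeval_X, aeval_C, aeval_C, Algebra.algebraMap_eq_smul_one] at h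
  set W := LinearMap.ker (aeval T (X - Polynomial.C (-1 : F))) with hWdef
  have hW : finrank F W = 2 := by
    have h1 := rank_add_ker (M' : M2d) (X - Polynomial.C (-1 : F))
    rw [map_sub, aeval_X, aeval_C, Algebra.algebraMap_eq_smul_one, hrk] at h1
    change _ + finrank F W = _ at h1
    omega
  have hkW : k ∣ finrank F W := dvd_ker (p := p) D hcomm _
  rw [hW, Nat.prime_dvd_prime_iff_eq D.prime Nat.prime_two] at hkW
  subst hkW
  have hTW : ∀ u, u ∈ W ↔ T u = -u := fun u => by
    rw [hWdef, LinearMap.mem_ker, map_sub, aeval_X, aeval_C, LinearMap.sub_apply, Module.algebraMap_end_apply,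
      neg_one_smul, sub_eq_zero]
  have hT2 : ∀ u, T (T u) = u := fun u => by
    rw [one_smul] at hM'
    rw [hTdef, ← Module.End.mul_apply, ← map_mul, ← pow_two, hM', map_one, Module.End.one_apply]
  obtain ⟨w, hw, hw0⟩ := Submodule.exists_mem_ne_zero_of_ne_bot (p := W) (fun h1 => by rw [h1, finrank_bot] at hW; omega)
  obtain ⟨a, ha, ha1⟩ : ∃ a ∈ K, ∀ l : F, a *ᵥ w ≠ l • w := by
    by_contra hc
    push Not at hc
    have hone : (1 : M2d) ≠ 0 := fun h0 => hw0 (by rw [← Matrix.one_mulVec w, h0, Matrix.zero_mulVec])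
    have h1 : K.toSubmodule ≤ Submodule.span F {(1 : M2d)} := fun a ha => by
      obtain ⟨l, hl⟩ := hc a ha
      refine Submodule.mem_span_singleton.mpr ⟨l, (sub_eq_zero.mp ?_).symm⟩
      by_contra h0
      exact hw0 (CfsgLib.Aschbacher.fieldSubalgebra_mulVec_eq_zero D.field (K.sub_mem ha (K.smul_mem K.one_mem l)) h0
        (by rw [Matrix.sub_mulVec, Matrix.smul_mulVec, Matrix.one_mulVec, hl, sub_self]))
    have h2 := Submodule.finrank_mono h1
    rw [Subalgebra.finrank_toSubmodule, D.field.finrank_eq, finrank_span_singleton hone] at h2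
    omega
  have hTa : T (a *ᵥ w) = -(a *ᵥ w) := by
    rw [hTdef, Matrix.toLinAlgEquiv'_apply, Matrix.mulVec_mulVec, hcomm a ha, ← Matrix.mulVec_mulVec,
      ← Matrix.mulVec_neg, ← (hTW w).mp hw]
    rfl
  have hTB : ∀ x y, sympB d F (T x) (T y) = sympB d F x y := fun x y => by
    rw [sympB_apply, sympB_apply]
    exact symp_preserves M' x y
  have hspan : W ≤ Submodule.span F (Set.range ![w, a *ᵥ w]) := by
    refine le_of_eq (Submodule.eq_of_le_of_finrank_le (Submodule.span_le.mpr ?_) ?_).symm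
    · rintro _ ⟨i, rfl⟩
      fin_cases i
      exacts [hw, (hTW _).mpr hTa]
    · rw [hW, finrank_span_eq_card ((LinearIndependent.pair_iff' hw0).mpr fun l hl => ha1 l hl.symm)]
      simp
  refine hw0 (sympB_nondeg.1 w fun y => ?_)
  have hplus : sympB d F w (y + T y) = 0 := by
    have h1 := hTB w (y + T y)
    rw [(hTW w).mp hw, map_add, hT2, add_comm (T y) y, map_neg, LinearMap.neg_apply] at h1
    exact (mul_eq_zero.mp (show (2 : F) * sympB d F w (y + T y) = 0 by linear_combination -h1)).resolve_left h20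
  have hminus : sympB d F w (y - T y) = 0 := by
    obtain ⟨s, hs⟩ := (Submodule.mem_span_range_iff_exists_fun F).mp (hspan ((hTW (y - T y)).mpr (by
      rw [map_sub, hT2, neg_sub])))
    rw [← hs, Fin.sum_univ_two]
    simp [sympB_alt w, ← D.sa a ha w w, D.alt a ha w]
  exact (mul_eq_zero.mp (show (2 : F) * sympB d F w y = 0 by
    rw [map_add] at hplus
    rw [map_sub] at hminus
    linear_combination hplus + hminus)).resolve_left h20

include p in
/-- The primes for which the index statement is needed do not divide the index. -/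
theorem index_not_dvd (D : ExtData K k) (hrp : r ≠ p)
    (hl : ∀ l : ℕ, r ∣ Fintype.card F ^ (2 * l) - 1 → k ∣ l) :
    ¬ r ∣ (Cfsg.Geo.subalgebraNormalizer K).relIndex (Cfsg.spGL d F) := by
  classical
  intro hdvd
  have hrP : r.Prime := Fact.out
  set N := Cfsg.Geo.subalgebraNormalizer K
  have hcard : Nat.card ↥(N ⊓ Cfsg.spGL d F) * N.relIndex (Cfsg.spGL d F) = Nat.card ↥(Cfsg.spGL d F) := by
    rw [← Subgroup.inf_relIndex_right]
    have h1 := Subgroup.card_mul_index ((N ⊓ Cfsg.spGL d F).subgroupOf (Cfsg.spGL d F))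
    rwa [Nat.card_congr (Subgroup.subgroupOfEquivOfLe inf_le_right).toEquiv] at h1
  have he : Function.Bijective (fun g : Matrix.symplecticGroup (Fin d) F =>
      (⟨CfsgLib.TensorElusive.glS g, CfsgLib.TensorElusive.glS_mem g⟩ : Cfsg.spGL d F)) := by
    refine ⟨fun g₁ g₂ e => Subtype.ext (congrArg (fun y : Cfsg.spGL d F => (y.1 : M2d)) e), fun g => ?_⟩
    obtain ⟨g₀, hg₀⟩ := CfsgLib.TensorElusive.exists_glS g.2
    exact ⟨g₀, Subtype.ext hg₀⟩
  rw [← Nat.card_eq_of_bijective _ he, Cfsg.Agent.S0245.result rfl] at hcard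
  obtain ⟨m, hdm, u, hu⟩ := exists_form (p := p) D
  rw [hu] at hcard
  set q := Fintype.card F with hq
  have hk0 := D.prime.pos
  let J := (Finset.range m).image fun i => k * (i + 1) - 1
  have hJ : J ⊆ Finset.range d := fun x hx => by
    obtain ⟨i, hi, rfl⟩ := Finset.mem_image.mp hx
    have h1 : k * (i + 1) ≤ k * m := Nat.mul_le_mul_left _ (Finset.mem_range.mp hi)
    have h2 : 0 < k * (i + 1) := by positivity
    exact Finset.mem_range.mpr (by omega)
  have hJprod : ∏ i ∈ Finset.range m, (q ^ (k * (2 * (i + 1))) - 1) = ∏ j ∈ J, (q ^ (2 * (j + 1)) - 1) := by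
    rw [Finset.prod_image fun a _ b _ hab => by
      have ha : 0 < k * (a + 1) := by positivity
      have hb : 0 < k * (b + 1) := by positivity
      have hab2 : k * (a + 1) - 1 = k * (b + 1) - 1 := hab
      have hab' : k * (a + 1) = k * (b + 1) := by omega
      have := Nat.eq_of_mul_eq_mul_left hk0 hab'
      omega]
    refine Finset.prod_congr rfl fun i _ => ?_
    have h2 : 0 < k * (i + 1) := by positivity
    rw [Nat.sub_add_cancel h2, Nat.mul_left_comm]
  have hexp : k * m ^ 2 ≤ d ^ 2 := by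
    rw [hdm, mul_pow]
    exact Nat.mul_le_mul_right _ (Nat.le_self_pow two_ne_zero k)
  obtain ⟨e, he'⟩ : ∃ e, d ^ 2 = k * m ^ 2 + e := ⟨d ^ 2 - k * m ^ 2, by omega⟩
  rw [← Finset.prod_sdiff hJ, ← hJprod, he', pow_add] at hcard
  have hP0 : q ^ (k * m ^ 2) * ∏ i ∈ Finset.range m, (q ^ (k * (2 * (i + 1))) - 1) ≠ 0 := by
    refine mul_ne_zero (pow_ne_zero _ Fintype.card_ne_zero) (Finset.prod_ne_zero_iff.mpr fun i _ => ?_)
    have h1 : 1 < q ^ (k * (2 * (i + 1))) := Nat.one_lt_pow (by positivity) Fintype.one_lt_card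
    omega
  have hdvd' : r ∣ q ^ e * ∏ j ∈ Finset.range d \ J, (q ^ (2 * (j + 1)) - 1) := by
    refine (mul_dvd_mul_iff_left hP0).mp ?_
    rw [show q ^ (k * m ^ 2) * (∏ i ∈ Finset.range m, (q ^ (k * (2 * (i + 1))) - 1)) *
        (q ^ e * ∏ j ∈ Finset.range d \ J, (q ^ (2 * (j + 1)) - 1)) =
      q ^ (k * m ^ 2) * q ^ e * ((∏ j ∈ Finset.range d \ J, (q ^ (2 * (j + 1)) - 1)) *
        ∏ i ∈ Finset.range m, (q ^ (k * (2 * (i + 1))) - 1)) by ring, ← hcard, mul_assoc _ u]
    exact mul_dvd_mul_left _ (dvd_mul_of_dvd_right hdvd u)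
  rcases hrP.dvd_mul.mp hdvd' with h1 | h1
  · exact hrp ((dvd_q_iff (F := F) hrP).mp (hrP.dvd_of_dvd_pow h1))
  · obtain ⟨j, hj, hj'⟩ := (hrP.prime.dvd_finsetProd_iff _).mp h1
    obtain ⟨hjd, hjJ⟩ := Finset.mem_sdiff.mp hj
    obtain ⟨t, ht⟩ := hl (j + 1) hj'
    obtain ⟨i, rfl⟩ : ∃ i, t = i + 1 := ⟨t - 1, by
      have ht0 : t ≠ 0 := by rintro rfl; rw [mul_zero] at ht; omega
      omega⟩
    have h3 : k * (i + 1) ≤ k * m := by rw [← ht, ← hdm]; exact Finset.mem_range.mp hjd
    exact hjJ (Finset.mem_image.mpr ⟨i, Finset.mem_range.mpr (Nat.le_of_mul_le_mul_left h3 hk0), by omega⟩)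

end CfsgLib.ExtSpElusive
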