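/-
Elements of period two modulo scalars in the four-dimensional case.
-/
import Cfsg.Agent.Lib.ExtSpElusive.Core
import Cfsg.Agent.Lib.FieldSpElusive.Positive

set_option autoImplicit false
set_option linter.unusedSectionVars false

namespace CfsgLib.ExtSpElusive

open Polynomial Module Matrix CfsgLib.IsotropicCount CfsgLib.FieldSpElusive
open scoped Kronecker

universe u

variable {F : Type u} [Field F] [Fintype F] {p : ℕ} [Fact p.Prime] [CharP F p]

local notation "V" => (Fin 2 ⊕ Fin 2 → F)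
local notation "M4" => Matrix (Fin 2 ⊕ Fin 2) (Fin 2 ⊕ Fin 2) F

theorem charpoly_reindex_halves (A : Matrix (Fin 2 × Fin 2) (Fin 2 × Fin 2) F) {M : M4}
    (h : IsConj M (Matrix.reindex (halves 2).symm (halves 2).symm A)) : M.charpoly = A.charpoly := by
  obtain ⟨g, hg⟩ := h
  have hM : M = ((g⁻¹ : M4ˣ) : M4) * Matrix.reindex (halves 2).symm (halves 2).symm A * (g : M4) := by
    rw [mul_assoc, ← hg.eq, ← mul_assoc, Units.inv_mul, one_mul]
  rw [hM, Matrix.charpoly_mul_comm, ← mul_assoc, Units.mul_inv, one_mul, Matrix.charpoly_reindex]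

/-- A non-central involution has both eigenspaces two-dimensional. -/
theorem charpoly_invol (h20 : (2 : F) ≠ 0) (x : Matrix.symplecticGroup (Fin 2) F) (hx : (x : M4) ^ 2 = 1)
    (hns : ∀ z : F, (x : M4) ≠ z • 1) : (x : M4).charpoly = (X ^ 2 - 1) ^ 2 := by
  classical
  obtain ⟨C, sg, hsg, hC⟩ := CfsgLib.TensorElusive.exists_basis_invol h20 x hx
  have hne : sg 0 ≠ sg 1 := fun h => hns (sg 0) (by
    have hsg' : sg = fun _ => sg 0 := funext fun j => by
      fin_cases j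
      exacts [rfl, h.symm]
    apply Matrix.toLin'.injective
    refine C.ext fun q => ?_
    have h1 : LinearMap.toMatrix C C (Matrix.toLin' (x : M4)) = Matrix.diagonal fun q => sg q.2 := by
      rw [hC, ← Matrix.diagonal_one, Matrix.diagonal_kronecker_diagonal]; simp
    have h2 : Matrix.toLin' (x : M4) = Matrix.toLin C C (Matrix.diagonal fun q : Fin 2 × Fin 2 => sg q.2) := by
      rw [← h1, Matrix.toLin_toMatrix]
    rw [h2, Matrix.toLin_self, map_smul, Matrix.toLin'_one]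
    simp only [Matrix.diagonal_apply, ite_smul, zero_smul, Finset.sum_ite_eq', Finset.mem_univ, if_true, LinearMap.id_apply,
      LinearMap.smul_apply]
    rw [show sg q.2 = sg 0 from congrFun hsg' q.2])
  rw [charpoly_reindex_halves _ (CfsgLib.TensorElusive.isConj_of_basis (halves 2) _ C _ hC), ← Matrix.diagonal_one,
    Matrix.diagonal_kronecker_diagonal, Matrix.charpoly_diagonal, Fintype.prod_prod_type]
  rcases mul_self_eq_one_iff.mp (hsg 0) with h0 | h0 <;> rcases mul_self_eq_one_iff.mp (hsg 1) with h1 | h1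
  · exact absurd (h0.trans h1.symm) hne
  · simp [Fin.prod_univ_two, h0, h1]; ring
  · simp [Fin.prod_univ_two, h0, h1]; ring
  · exact absurd (h0.trans h1.symm) hne

include p in
/-- In dimension four, elements of period two modulo scalars normalise a conjugate of the field. -/
theorem symp_four {K : Subalgebra F M4} (D : ExtData K 2) (hp2 : p ≠ 2) (x : GL (Fin 2 ⊕ Fin 2) F)
    (hx : x ∈ Cfsg.spGL 2 F) {z : F} (hz : ((x ^ 2 : GL (Fin 2 ⊕ Fin 2) F) : M4) = z • 1)
    (hns : ∀ z : F, (x : M4) ≠ z • 1) :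
    ∃ g ∈ Cfsg.spGL 2 F, g⁻¹ * x * g ∈ Cfsg.Geo.subalgebraNormalizer K := by
  classical
  have h20 : (2 : F) ≠ 0 := fun h => by
    have h' : ((2 : ℕ) : F) = 0 := by exact_mod_cast h
    rw [CharP.cast_eq_zero_iff F p] at h'
    exact hp2 ((Nat.prime_dvd_prime_iff_eq Fact.out Nat.prime_two).mp h')
  have h2F : ringChar F ≠ 2 := fun hc => h20 (by
    have := ringChar.of_eq hc
    exact CharP.ofNat_eq_zero F 2)
  obtain ⟨ν, hν⟩ := FiniteField.exists_nonsquare h2F
  have hν0 : ν ≠ 0 := fun h => hν (h ▸ IsSquare.zero)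
  obtain ⟨j⟩ := exists_iso (p := p) D
  let E := FiniteField.Extension F p 2
  let : Fintype E := Fintype.ofFinite E
  obtain ⟨t, ht⟩ : IsSquare (algebraMap F E ν) := by
    have h2E : ringChar E ≠ 2 := fun hc => by
      have := ringChar.of_eq hc
      exact h20 ((algebraMap F E).injective (by rw [map_ofNat, map_zero]; exact CharP.ofNat_eq_zero E 2))
    refine (FiniteField.isSquare_iff h2E ((_root_.map_ne_zero _).mpr hν0)).mpr ?_
    obtain ⟨n, hn⟩ := Nat.odd_iff.mpr (FiniteField.odd_card_of_char_ne_two h2F)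
    rw [← Nat.card_eq_fintype_card, FiniteField.natCard_extension, Nat.card_eq_fintype_card, hn,
      show (2 * n + 1) ^ 2 / 2 = 2 * n * (n + 1) by
        rw [show (2 * n + 1) ^ 2 = 2 * (2 * n * (n + 1)) + 1 by ring]; omega, pow_mul, ← map_pow,
      show 2 * n = Fintype.card F - 1 by omega, FiniteField.pow_card_sub_one_eq_one ν hν0, map_one, one_pow]
  set a : M4 := (j t : M4)
  have ha : a ∈ K := (j t).2
  have ha2 : a * a = ν • 1 := by
    show ((j t * j t : K) : M4) = _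
    rw [← map_mul, ← ht, AlgEquiv.commutes, SubalgebraClass.coe_algebraMap, Algebra.algebraMap_eq_smul_one]
  have ha2v : ∀ v, a *ᵥ (a *ᵥ v) = ν • v := fun v => by
    rw [Matrix.mulVec_mulVec, ha2, Matrix.smul_mulVec, Matrix.one_mulVec]
  have hline : ∀ v : V, v ≠ 0 → ∀ l : F, a *ᵥ v ≠ l • v := fun v hv l h => by
    have h1 := ha2v v
    rw [h, Matrix.mulVec_smul, h, smul_smul] at h1
    exact hν ⟨l, (smul_left_injective F hv h1).symm⟩
  have hspan : ∀ k ∈ K, ∃ α β : F, k = α • 1 + β • a := by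
    intro k hk
    have hne : (1 : M4) ≠ 0 := one_ne_zero
    have hli : LinearIndependent F ![(1 : M4), a] := (LinearIndependent.pair_iff' hne).mpr fun l hl => by
      refine hline (Pi.single (Sum.inl 0) 1) (by simp) l ?_
      rw [← hl, Matrix.smul_mulVec, Matrix.one_mulVec]
    have heq : Submodule.span F (Set.range ![(1 : M4), a]) = K.toSubmodule := by
      refine Submodule.eq_of_le_of_finrank_le (Submodule.span_le.2 ?_) ?_
      · rintro _ ⟨i, rfl⟩
        fin_cases i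
        exacts [K.one_mem, ha]
      · rw [finrank_span_eq_card hli, Subalgebra.finrank_toSubmodule, D.field.finrank_eq]; rfl
    obtain ⟨s, hs⟩ := (Submodule.mem_span_range_iff_exists_fun F).1 (heq.ge ((Subalgebra.mem_toSubmodule K).2 hk))
    exact ⟨s 0, s 1, by rw [← hs, Fin.sum_univ_two]; rfl⟩
  -- the frame
  set e : V := Pi.single (Sum.inl 0) 1
  have he : e ≠ 0 := by simp [e]
  obtain ⟨f₁, hf₁⟩ : ∃ f₁, sympB 2 F e f₁ ≠ 0 := by
    by_contra hc
    push Not at hc
    exact he (sympB_nondeg.1 e hc)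
  obtain ⟨f₂, hf₂, hf₂'⟩ : ∃ f₂, sympB 2 F e f₂ = 0 ∧ sympB 2 F (a *ᵥ e) f₂ ≠ 0 := by
    by_contra hc
    push Not at hc
    refine hline e he (sympB 2 F (a *ᵥ e) f₁ / sympB 2 F e f₁) (sub_eq_zero.mp (sympB_nondeg.1 _ fun v => ?_))
    have h := hc (v - (sympB 2 F e v / sympB 2 F e f₁) • f₁) (by
      rw [map_sub, map_smul, smul_eq_mul, div_mul_cancel₀ _ hf₁, sub_self])
    rw [map_sub, map_smul, smul_eq_mul, sub_eq_zero] at h
    rw [map_sub, LinearMap.sub_apply, map_smul, LinearMap.smul_apply, smul_eq_mul, h]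
    ring
  obtain ⟨f, hf, hf'⟩ : ∃ f, sympB 2 F e f = 1 ∧ sympB 2 F (a *ᵥ e) f = 0 := by
    refine ⟨(sympB 2 F e f₁)⁻¹ • (f₁ - (sympB 2 F (a *ᵥ e) f₁ / sympB 2 F (a *ᵥ e) f₂) • f₂), ?_, ?_⟩
    · simp [hf₂, hf₁]
    · simp [hf₂']
  have hB : ∀ u v : V, sympB 2 F v u = -sympB 2 F u v := fun u v => by
    have h := sympB_alt (u + v)
    simp only [map_add, LinearMap.add_apply, sympB_alt u, sympB_alt v, zero_add, add_zero] at h
    linear_combination h
  let col : Fin 2 ⊕ Fin 2 → V := Sum.elim ![f, ν⁻¹ • a *ᵥ f] ![e, a *ᵥ e]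
  let P : M4 := Matrix.of fun k l => col l k
  have hP : ∀ l, P *ᵥ Pi.single l 1 = col l := fun l => by funext k; simp [P]
  have hPmem : P ∈ Matrix.symplecticGroup (Fin 2) F := SymplecticGroup.mem_iff'.mpr (Matrix.ext fun i l => by
    have h : (Pᵀ * Matrix.J (Fin 2) F * P) i l = sympB 2 F (col i) (col l) := by
      rw [← hP i, ← hP l, sympB, Matrix.toBilin'_apply']
      rw [Matrix.mulVec_mulVec, ← Matrix.vecMul_transpose P (Pi.single i 1), ← Matrix.dotProduct_mulVec,
        Matrix.mulVec_mulVec, Matrix.mulVec_single_one, single_dotProduct, one_mul, Matrix.mul_assoc]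
      rfl
    rw [h]
    have h1 : sympB 2 F (a *ᵥ e) (a *ᵥ f) = ν := by rw [D.sa a ha, ha2v, map_smul, hf, smul_eq_mul, mul_one]
    have h2 : sympB 2 F e (a *ᵥ f) = 0 := by rw [← D.sa a ha, hf']
    have h3 : sympB 2 F e (a *ᵥ e) = 0 := by rw [← D.sa a ha, D.alt a ha]
    have h4 : sympB 2 F f (a *ᵥ f) = 0 := by rw [← D.sa a ha, D.alt a ha]
    rcases i with i | i <;> rcases l with l | l <;> fin_cases i <;> fin_cases l <;>
      simp [col, Matrix.J, sympB_alt e, sympB_alt f, sympB_alt (a *ᵥ e), sympB_alt (a *ᵥ f), hf, hf', h1, h2, h3, h4,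
        D.alt a ha, hB e f, hB (a *ᵥ e) f, hB (a *ᵥ e) (a *ᵥ f), hB e (a *ᵥ f), hν0])
  let a₀ : M4 := Matrix.fromBlocks !![0, 1; ν, 0] 0 0 !![0, ν; 1, 0]
  have haP : a * P = P * a₀ := by
    refine Matrix.ext_of_mulVec_single fun l => ?_
    rw [← Matrix.mulVec_mulVec, ← Matrix.mulVec_mulVec, hP]
    have hexp : ∀ w : V, P *ᵥ w = ∑ l, w l • col l := fun w => by
      funext k; simp [P, Matrix.mulVec, dotProduct, mul_comm]
    rw [hexp, Fintype.sum_sum_type, Fin.sum_univ_two, Fin.sum_univ_two]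
    rcases l with l | l <;> fin_cases l <;>
      simp [a₀, col, Matrix.mulVec_smul, ha2v, hν0]
  obtain ⟨x₀, rfl⟩ := CfsgLib.TensorElusive.exists_glS hx
  have hx2 : (x₀ : M4) ^ 2 = z • 1 := hz
  have hz2 : z * z = 1 := CfsgLib.PrimeIso.symp_scalar_sq (d := 2) two_pos (x₀ ^ 2) (by rw [SubmonoidClass.coe_pow]; exact hx2)
  have hord : ∀ y : Matrix.symplecticGroup (Fin 2) F, (y : M4) ^ 2 = z • 1 → (orderOf y).Coprime p := fun y hy => by
    have h4 : y ^ 4 = 1 := Subtype.ext (by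
      rw [SubmonoidClass.coe_pow, show (4 : ℕ) = 2 * 2 from rfl, pow_mul, hy, _root_.smul_pow, one_pow, pow_two, hz2,
        one_smul]
      rfl)
    refine Nat.Coprime.coprime_dvd_left (orderOf_dvd_of_pow_eq_one h4) ?_
    rw [show (4 : ℕ) = 2 ^ 2 from rfl]
    exact Nat.Coprime.pow_left _ ((Nat.coprime_primes Nat.prime_two Fact.out).mpr hp2.symm)
  suffices ∃ (y : Matrix.symplecticGroup (Fin 2) F) (s : F), s * s = 1 ∧
      (y : M4) * a₀ = s • (a₀ * (y : M4)) ∧ IsConj x₀ y by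
    obtain ⟨y, s, hs, hy, hxy⟩ := this
    set Q : Matrix.symplecticGroup (Fin 2) F := ⟨P, hPmem⟩
    obtain ⟨v, hv⟩ := isConj_iff.mp (hxy.trans (isConj_iff.mpr ⟨Q, rfl⟩))
    refine ⟨CfsgLib.TensorElusive.glS v⁻¹, CfsgLib.TensorElusive.glS_mem _, ?_⟩
    rw [← map_inv, inv_inv, ← map_mul, ← map_mul, hv]
    refine mem_normalizer ha hspan hs ?_
    show ((Q * y * Q⁻¹ : Matrix.symplecticGroup (Fin 2) F) : M4) * a =
      s • (a * ((Q * y * Q⁻¹ : Matrix.symplecticGroup (Fin 2) F) : M4))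
    rw [Submonoid.coe_mul, Submonoid.coe_mul]
    have h1 : (Q : M4) * ((Q⁻¹ : Matrix.symplecticGroup (Fin 2) F) : M4) = 1 := by
      rw [← Submonoid.coe_mul, mul_inv_cancel]; rfl
    have h2 : ((Q⁻¹ : Matrix.symplecticGroup (Fin 2) F) : M4) * (Q : M4) = 1 := by
      rw [← Submonoid.coe_mul, inv_mul_cancel]; rfl
    set Qi := ((Q⁻¹ : Matrix.symplecticGroup (Fin 2) F) : M4)
    have haQ : a = (Q : M4) * a₀ * Qi := by
      show a = P * a₀ * Qi
      rw [← haP, mul_assoc]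
      exact ((congrArg (a * ·) h1).trans (mul_one a)).symm
    rw [haQ, show (Q : M4) * (y : M4) * Qi * ((Q : M4) * a₀ * Qi) =
        (Q : M4) * ((y : M4) * (Qi * (Q : M4)) * a₀) * Qi by simp only [mul_assoc],
      show (Q : M4) * a₀ * Qi * ((Q : M4) * (y : M4) * Qi) =
        (Q : M4) * (a₀ * (Qi * (Q : M4)) * (y : M4)) * Qi by simp only [mul_assoc],
      h2, mul_one, mul_one, hy, Matrix.mul_smul, Matrix.smul_mul]
  rcases mul_self_eq_one_iff.mp hz2 with rfl | rfl
  · rw [one_smul] at hx2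
    let D₁ : Matrix (Fin 2) (Fin 2) F := Matrix.diagonal ![1, -1]
    have hmem : Matrix.fromBlocks D₁ 0 0 D₁ ∈ Matrix.symplecticGroup (Fin 2) F := by
      rw [SymplecticGroup.mem_iff, Matrix.J, Matrix.fromBlocks_transpose, Matrix.fromBlocks_multiply, Matrix.fromBlocks_multiply]
      congr 1 <;> (ext i l; fin_cases i <;> fin_cases l <;> simp [D₁, Matrix.vecMul_diagonal])
    have hy2 : (Matrix.fromBlocks D₁ 0 0 D₁ : M4) ^ 2 = 1 := by
      rw [pow_two, Matrix.fromBlocks_multiply, ← Matrix.fromBlocks_one]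
      congr 1 <;> (ext i l; fin_cases i <;> fin_cases l <;> simp [D₁, Matrix.vecMul_diagonal])
    refine ⟨⟨_, hmem⟩, -1, by ring, ?_, CfsgLib.SemisimpleIso.symp_isConj_of_charpoly (hord x₀ (by rw [hx2, one_smul]))
      (hord _ (by rw [one_smul]; exact hy2)) ((charpoly_invol h20 x₀ hx2 hns).trans (charpoly_invol h20 ⟨_, hmem⟩ hy2 ?_).symm)⟩
    · show Matrix.fromBlocks D₁ 0 0 D₁ * a₀ = _
      show _ = (-1 : F) • (a₀ * Matrix.fromBlocks D₁ 0 0 D₁)
      rw [Matrix.fromBlocks_multiply, Matrix.fromBlocks_multiply, Matrix.fromBlocks_smul]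
      congr 1 <;> (ext i l; fin_cases i <;> fin_cases l <;> simp [D₁, Matrix.vecMul_diagonal])
    · intro l h
      have e0 := congrFun (congrFun h (Sum.inl 0)) (Sum.inl 0)
      have e1 := congrFun (congrFun h (Sum.inl 1)) (Sum.inl 1)
      simp [D₁] at e0 e1
      exact h20 (by linear_combination e0 - e1)
  · let U₁ : Matrix (Fin 2) (Fin 2) F := Matrix.diagonal ![1, ν]
    let U₂ : Matrix (Fin 2) (Fin 2) F := Matrix.diagonal ![-1, -ν⁻¹]
    have hmem : Matrix.fromBlocks 0 U₁ U₂ 0 ∈ Matrix.symplecticGroup (Fin 2) F := by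
      rw [SymplecticGroup.mem_iff, Matrix.J, Matrix.fromBlocks_transpose, Matrix.fromBlocks_multiply, Matrix.fromBlocks_multiply]
      congr 1 <;> (ext i l; fin_cases i <;> fin_cases l <;> simp [U₁, U₂, hν0, Matrix.vecMul_diagonal])
    have hy2 : (Matrix.fromBlocks 0 U₁ U₂ 0 : M4) ^ 2 = (-1 : F) • 1 := by
      rw [pow_two, Matrix.fromBlocks_multiply, ← Matrix.fromBlocks_one, Matrix.fromBlocks_smul]
      congr 1 <;> (ext i l; fin_cases i <;> fin_cases l <;> simp [U₁, U₂, hν0, Matrix.vecMul_diagonal])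
    refine ⟨⟨_, hmem⟩, 1, one_mul 1, ?_, CfsgLib.SemisimpleIso.symp_isConj_of_charpoly (hord x₀ hx2) (hord _ hy2)
      ((charpoly_neg h20 two_pos x₀ hx2).trans (charpoly_neg h20 two_pos ⟨_, hmem⟩ hy2).symm)⟩
    show Matrix.fromBlocks 0 U₁ U₂ 0 * a₀ = (1 : F) • (a₀ * Matrix.fromBlocks 0 U₁ U₂ 0)
    rw [one_smul, Matrix.fromBlocks_multiply, Matrix.fromBlocks_multiply]
    congr 1 <;> (ext i l; fin_cases i <;> fin_cases l <;> simp [U₁, U₂, hν0, Matrix.vecMul_diagonal])

end CfsgLib.ExtSpElusive
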